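import Cfsg.Agent.SteinbergSLn.RankOne

/-!
# A group with the Steinberg relations of `SLₙ` is represented faithfully

Induction on the index set: the elements with `φ g e_a = e_a` lie in `X s s'`.
-/

set_option autoImplicit false
set_option linter.unusedSectionVars false

namespace CfsgLib.SteinbergSLn

variable {G K ι : Type*} [Group G] [Field K] [Finite K] [Fintype ι] [DecidableEq ι]
variable {x : ι → ι → K → G} {φ : G →* Matrix ι ι K}

/-- The big cell. -/
def Big (x : ι → ι → K → G) (a b : ι) (s' : Finset ι) (g : G) : Prop :=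
  ∃ v ∈ X x s' {a}, ∃ c : K, c ≠ 0 ∧ ∃ η ∈ X x (insert a s') s', g = v * H x a b c * η

/-- Elements that a row element moves into the big cell. -/
def Cov (x : ι → ι → K → G) (a b : ι) (s' : Finset ι) (g : G) : Prop :=
  ∃ y ∈ X x {a} s', Big x a b s' (y * g)

section Step

variable (S : StRel x φ) {a b : ι} {s' : Finset ι} (ha : a ∉ s') (hb : b ∈ s')
include S ha hb

theorem lev_norm_row : X x s' s' ≤ Subgroup.normalizer (X x {a} s' : Set G) := by
  refine X_le_normalizer S fun k hk l hl hkl i hi j hj hij u t => ?_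
  rw [Finset.mem_singleton] at hi
  subst hi
  have hla : l ≠ i := fun e => ha (e ▸ hl)
  have hka : k ≠ i := fun e => ha (e ▸ hk)
  by_cases hjk : j = k
  · subst hjk
    rw [conj_snd S hij hkl hla.symm]
    exact mul_mem (mem_X (Finset.mem_singleton_self _) hl hla.symm _)
      (mem_X (Finset.mem_singleton_self _) hj hij _)
  · rw [conj_comm S hkl hij (Ne.symm hjk) hla]
    exact mem_X (Finset.mem_singleton_self _) hj hij _

theorem lev_norm_col : X x s' s' ≤ Subgroup.normalizer (X x s' {a} : Set G) := by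
  refine X_le_normalizer S fun k hk l hl hkl i hi j hj hij u t => ?_
  rw [Finset.mem_singleton] at hj
  subst hj
  have hla : l ≠ j := fun e => ha (e ▸ hl)
  have hka : k ≠ j := fun e => ha (e ▸ hk)
  by_cases hli : l = i
  · subst hli
    rw [conj_fst S hkl hla hka]
    exact mul_mem (mem_X hk (Finset.mem_singleton_self _) hka _)
      (mem_X hi (Finset.mem_singleton_self _) hij _)
  · rw [conj_comm S hkl hij hka hli]
    exact mem_X hi (Finset.mem_singleton_self _) hij _

theorem hab : a ≠ b := fun e => ha (e ▸ hb)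

theorem tor_conj_lev {c : K} (hc : c ≠ 0) {y : G} (hy : y ∈ X x s' s') :
    H x a b c * y * (H x a b c)⁻¹ ∈ X x s' s' := by
  refine conj_X_mem (fun k hk l hl hkl u => ?_) hy
  have hab := hab S ha hb
  have hla : l ≠ a := fun e => ha (e ▸ hl)
  have hka : k ≠ a := fun e => ha (e ▸ hk)
  by_cases hkb : k = b
  · subst hkb
    rw [H_jk S hab hla hkl.symm hc]
    exact mem_X hk hl hkl _
  by_cases hlb : l = b
  · subst hlb
    rw [H_kj S hab hka hkb hc]
    exact mem_X hk hl hkl _
  rw [H_kl S hab hkl hka hkb hla hlb]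
  exact mem_X hk hl hkl _

theorem tor_conj_row {c : K} (hc : c ≠ 0) {y : G} (hy : y ∈ X x {a} s') :
    H x a b c * y * (H x a b c)⁻¹ ∈ X x {a} s' := by
  refine conj_X_mem (fun i hi j hj hij u => ?_) hy
  have hab := hab S ha hb
  rw [Finset.mem_singleton] at hi
  subst hi
  by_cases hjb : j = b
  · subst hjb
    rw [H_self S hab hc]
    exact mem_X (Finset.mem_singleton_self _) hj hij _
  · rw [H_ik S hab (Ne.symm hij) hjb hc]
    exact mem_X (Finset.mem_singleton_self _) hj hij _

theorem lev_le_stab : X x s' s' ≤ X x (insert a s') s' :=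
  X_mono (Finset.subset_insert _ _) subset_rfl

theorem row_le_stab : X x {a} s' ≤ X x (insert a s') s' :=
  X_mono (by simp) subset_rfl

theorem exists_stab {η : G} (hη : η ∈ X x (insert a s') s') :
    ∃ y ∈ X x {a} s', ∃ l ∈ X x s' s', η = y * l := by
  refine exists_mul_of_mem_sup (lev_norm_row S ha hb) (X_le (fun i hi j hj hij t => ?_) hη)
  rcases Finset.mem_insert.1 hi with rfl | hi
  · exact Subgroup.mem_sup_left (mem_X (Finset.mem_singleton_self _) hj hij t)
  · exact Subgroup.mem_sup_right (mem_X hi hj hij t)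

theorem tor_conj_stab {c : K} (hc : c ≠ 0) {η : G} (hη : η ∈ X x (insert a s') s') :
    (H x a b c)⁻¹ * η * H x a b c ∈ X x (insert a s') s' := by
  obtain ⟨y, hy, l, hl, rfl⟩ := exists_stab S ha hb hη
  have hi := H_inv S (hab S ha hb) hc
  have e : (H x a b c)⁻¹ * (y * l) * H x a b c =
      (H x a b c⁻¹ * y * (H x a b c⁻¹)⁻¹) * (H x a b c⁻¹ * l * (H x a b c⁻¹)⁻¹) := by
    rw [← hi]; group
  rw [e]
  exact mul_mem (row_le_stab S ha hb (tor_conj_row S ha hb (inv_ne_zero hc) hy))
    (lev_le_stab S ha hb (tor_conj_lev S ha hb (inv_ne_zero hc) hl))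

theorem exists_col_lev {p : G} (hp : p ∈ X x s' (insert a s')) :
    ∃ v ∈ X x s' {a}, ∃ l ∈ X x s' s', p = v * l := by
  refine exists_mul_of_mem_sup (lev_norm_col S ha hb) (X_le (fun i hi j hj hij t => ?_) hp)
  rcases Finset.mem_insert.1 hj with rfl | hj
  · exact Subgroup.mem_sup_left (mem_X hi (Finset.mem_singleton_self _) hij t)
  · exact Subgroup.mem_sup_right (mem_X hi hj hij t)

theorem Big.left {p g : G} (hp : p ∈ X x s' (insert a s')) (hg : Big x a b s' g) :
    Big x a b s' (p * g) := by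
  obtain ⟨v₀, hv₀, l, hl, rfl⟩ := exists_col_lev S ha hb hp
  obtain ⟨v, hv, c, hc, η, hη, rfl⟩ := hg
  refine ⟨v₀ * (l * v * l⁻¹), mul_mem hv₀ (conj_mem_of_le_normalizer (lev_norm_col S ha hb) hl hv),
    c, hc, ((H x a b c)⁻¹ * l * H x a b c) * η,
    mul_mem (tor_conj_stab S ha hb hc (lev_le_stab S ha hb hl)) hη, ?_⟩
  group

theorem coord_left {p : G} (hp : p ∈ X x s' (insert a s')) (g : G) : φ (p * g) a a = φ g a a := by
  have e : ∀ m, φ p a m = (1 : Matrix ι ι K) a m := fun m => map_apply S hp a m (Or.inl ha)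
  rw [map_mul]
  calc (φ p * φ g) a a = ((1 : Matrix ι ι K) * φ g) a a := by simp only [Matrix.mul_apply, e]
    _ = _ := by rw [Matrix.one_mul]

theorem tor_other {j : ι} (hj : j ∈ s') {c : K} (hc : c ≠ 0) :
    ∃ l ∈ X x s' s', H x a j c = H x a b c * l := by
  by_cases hjb : j = b
  · subst hjb; exact ⟨1, one_mem _, (mul_one _).symm⟩
  have hab := hab S ha hb
  have haj : a ≠ j := fun e => ha (e ▸ hj)
  set w := W x b j (-1) with hw
  have hwm : w ∈ X x s' s' := W_mem (Ne.symm hjb) hb hj hb hj _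
  have h1 : ∀ v, w * x a b v * w⁻¹ = x a j v := fun v => by
    rw [hw, W_ki S (Ne.symm hjb) hab haj (neg_ne_zero.2 one_ne_zero)]; simp
  have h2 : ∀ v, w * x b a v * w⁻¹ = x j a v := fun v => by
    rw [hw, W_ik S (Ne.symm hjb) hab haj (neg_ne_zero.2 one_ne_zero)]; simp
  have e : w * H x a b c * w⁻¹ = H x a j c := by
    simp only [H, W, conj_prod, h1, h2]
  refine ⟨((H x a b c)⁻¹ * w * ((H x a b c)⁻¹)⁻¹) * w⁻¹, mul_mem ?_ (inv_mem hwm), ?_⟩
  · rw [H_inv S hab hc]; exact tor_conj_lev S ha hb (inv_ne_zero hc) hwm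
  · rw [← e]; group

theorem Big.single {j : ι} (hj : j ∈ s') (t : K) {g : G} (hg : Big x a b s' g)
    (h0 : φ (x a j t * g) a a ≠ 0) : Big x a b s' (x a j t * g) := by
  obtain ⟨v, hv, c, hc, η, hη, rfl⟩ := hg
  have hab := hab S ha hb
  have haj : a ≠ j := fun e => ha (e ▸ hj)
  obtain ⟨r, z, hz, rfl⟩ := exists_split S haj.symm (R' := s'.erase j) (C' := {a})
    (fun k hk l hl _ => by
      rw [Finset.mem_singleton] at hl
      by_cases hkj : k = j
      · exact Or.inl ⟨hkj, hl⟩
      · exact Or.inr ⟨Finset.mem_erase.2 ⟨hkj, hk⟩, Finset.mem_singleton.2 hl⟩)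
    (fun k hk l hl _ => by
      rw [Finset.mem_singleton] at hl
      subst hl
      exact ⟨haj.symm, fun e => ha (e ▸ Finset.mem_of_mem_erase hk)⟩) hv
  set p := x a j t * z * (x a j t)⁻¹ with hpdef
  have hp : p ∈ X x s' (insert a s') := by
    refine conj_X_mem (fun i hi k hk hik u => ?_) hz
    rw [Finset.mem_singleton] at hk
    rw [hk] at hik ⊢
    rw [Finset.mem_erase] at hi
    rw [conj_snd S hik haj hi.1]
    exact mul_mem (mem_X hi.2 (Finset.mem_insert_of_mem hj) hi.1 _)
      (mem_X hi.2 (Finset.mem_insert_self _ _) hik _)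
  have e1 : x a j t * (z * x j a r * H x a b c * η) = p * (x a j t * x j a r * H x a b c * η) := by
    rw [hpdef]; group
  rw [e1, coord_left S ha hb hp] at h0
  rw [e1]
  have hcol : φ (x a j t * x j a r * H x a b c * η) a a = (1 + t * r) * c := by
    have hη' : ∀ m, φ η m a = (1 : Matrix ι ι K) m a := fun m => map_apply S hη m a (Or.inr ha)
    have e2 : φ (x a j t * x j a r) a a = 1 + t * r := by
      rw [map_mul, S.map _ _ haj, S.map _ _ haj.symm, Matrix.transvection_mul_apply_same]
      simp [Matrix.transvection, haj, haj.symm]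
    rw [map_mul, Matrix.mul_apply, Finset.sum_eq_single a
      (fun m _ hm => by rw [hη', Matrix.one_apply_ne hm, mul_zero]) (by simp), hη', Matrix.one_apply_eq,
      mul_one, map_mul, Matrix.mul_apply, Finset.sum_eq_single a
      (fun m _ hm => by rw [map_H_col S hab hc, if_neg hm, mul_zero]) (by simp), map_H_col S hab hc,
      if_pos rfl, e2]
  rw [hcol] at h0
  have hd : 1 + t * r ≠ 0 := left_ne_zero_of_mul h0
  refine Big.left S ha hb hp ?_
  obtain ⟨l, hl, el⟩ := tor_other S ha hb hj hd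
  rw [x_mul_x S haj hd, el]
  set d := 1 + t * r with hddef
  refine ⟨x j a (r / d), mem_X hj (Finset.mem_singleton_self _) haj.symm _, d * c, mul_ne_zero hd hc,
    ((H x a b c)⁻¹ * (l * x a j (t / d)) * H x a b c) * η,
    mul_mem (tor_conj_stab S ha hb hc (mul_mem (lev_le_stab S ha hb hl)
      (row_le_stab S ha hb (mem_X (Finset.mem_singleton_self _) hj haj _)))) hη, ?_⟩
  rw [← H_mul S hab hd hc]
  group

theorem Big.row {y g : G} (hy : y ∈ X x {a} s') (hg : Big x a b s' g) (h0 : φ (y * g) a a ≠ 0) :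
    Big x a b s' (y * g) := by
  by_cases hex : ∀ j ∈ s', φ y a j = 0
  · rw [eq_one_of_row S a s' ha y hy hex, one_mul]; exact hg
  simp only [not_forall] at hex
  obtain ⟨j, hj, hyj⟩ := hex
  have haj : a ≠ j := fun e => ha (e ▸ hj)
  have hsplit : ∀ i ∈ ({a} : Finset ι), ∀ k ∈ s'.erase j, i ≠ k → a ≠ k ∧ j ≠ i := by
    intro i hi k hk hik
    rw [Finset.mem_singleton] at hi
    exact ⟨fun e => hik (hi.trans e), fun e => haj (hi ▸ e.symm)⟩
  obtain ⟨r, z, hz, rfl⟩ := exists_split S haj (R' := {a}) (C' := s'.erase j)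
    (fun i hi k hk _ => by
      rw [Finset.mem_singleton] at hi
      by_cases hkj : k = j
      · exact Or.inl ⟨hi, hkj⟩
      · exact Or.inr ⟨Finset.mem_singleton.2 hi, Finset.mem_erase.2 ⟨hkj, hk⟩⟩)
    hsplit hy
  have hr : r ≠ 0 := by
    intro e
    apply hyj
    rw [e, zero S haj, mul_one, map_apply S hz a j (Or.inr (by simp)), Matrix.one_apply_ne haj]
  -- `z * x a j r` is conjugate to `x a j r`
  have hcom : ∀ i ∈ ({j} : Finset ι), ∀ k ∈ s'.erase j, i ≠ k → ∀ i' ∈ ({a} : Finset ι),
      ∀ k' ∈ s'.erase j, i' ≠ k' → ∀ u u' : K,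
      x i k u * x i' k' u' * (x i k u)⁻¹ = x i' k' u' := by
    intro i hi k hk hik i' hi' k' hk' hik' u u'
    rw [Finset.mem_singleton] at hi hi'
    exact conj_comm S hik hik' (fun e => (Finset.ne_of_mem_erase hk') (e ▸ hi))
      (fun e => ha (hi' ▸ e ▸ Finset.mem_of_mem_erase hk)) u u'
  have hfix : ∀ l ∈ X x {j} (s'.erase j), ∀ w ∈ X x {a} (s'.erase j), l * w * l⁻¹ = w := by
    intro l hl w hw
    have hle : X x {j} (s'.erase j) ≤ Subgroup.centralizer (X x {a} (s'.erase j) : Set G) := by
      refine X_le fun i hi k hk hik u => ?_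
      rw [Subgroup.mem_centralizer_iff]
      intro w hw
      have hle' : X x {a} (s'.erase j) ≤ Subgroup.centralizer {x i k u} := by
        refine X_le fun i' hi' k' hk' hik' u' => ?_
        rw [Subgroup.mem_centralizer_singleton_iff]
        exact (mul_inv_eq_iff_eq_mul.1 (hcom i hi k hk hik i' hi' k' hk' hik' u u')).symm
      exact (Subgroup.mem_centralizer_singleton_iff.1 (hle' hw))
    rw [← Subgroup.mem_centralizer_iff.1 (hle hl) w hw, mul_inv_cancel_right]
  have hconj : ∀ w ∈ X x {a} (s'.erase j), ∃ l ∈ X x {j} (s'.erase j),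
      l * x a j r * l⁻¹ = w * x a j r := by
    intro w hw
    unfold X at hw
    induction hw using Subgroup.closure_induction with
    | mem w hw =>
      obtain ⟨i, hi, k, hk, hik, u, rfl⟩ := hw
      rw [Finset.mem_singleton] at hi
      rw [hi] at hik ⊢
      have hjk : j ≠ k := (Finset.ne_of_mem_erase hk).symm
      refine ⟨x j k (-(u / r)), mem_X (Finset.mem_singleton_self _) hk hjk _, ?_⟩
      rw [conj_snd S haj hjk hik, show -(r * -(u / r)) = u by field_simp]
    | one => exact ⟨1, one_mem _, by simp⟩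
    | mul u v hu hv ihu ihv =>
      obtain ⟨l, hl, el⟩ := ihu; obtain ⟨m, hm, em⟩ := ihv
      refine ⟨l * m, mul_mem hl hm, ?_⟩
      calc l * m * x a j r * (l * m)⁻¹ = l * (m * x a j r * m⁻¹) * l⁻¹ := by group
        _ = (l * v * l⁻¹) * (l * x a j r * l⁻¹) := by rw [em]; group
        _ = _ := by
          rw [hfix l hl v hv, el, ← mul_assoc]
          congr 1
          have hc : X x {a} (s'.erase j) ≤ Subgroup.centralizer (X x {a} (s'.erase j) : Set G) := by
            refine X_le fun i hi k hk hik u => ?_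
            rw [Subgroup.mem_centralizer_iff]
            intro w hw
            have hc' : X x {a} (s'.erase j) ≤ Subgroup.centralizer {x i k u} := by
              refine X_le fun i' hi' k' hk' hik' u' => ?_
              rw [Subgroup.mem_centralizer_singleton_iff]
              rw [Finset.mem_singleton] at hi hi'
              exact (S.comm i' k' i k hik' hik (hi'.trans hi.symm ▸ hik)
                (fun e => hik' ((hi'.trans hi.symm).trans e.symm)) u' u).eq
            exact (Subgroup.mem_centralizer_singleton_iff.1 (hc' hw))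
          exact Subgroup.mem_centralizer_iff.1 (hc hu) v hv
    | inv u hu ihu =>
      obtain ⟨l, hl, el⟩ := ihu
      refine ⟨l⁻¹, inv_mem hl, ?_⟩
      have e : l⁻¹ * (u * x a j r) * l⁻¹⁻¹ = x a j r := by rw [← el]; group
      calc l⁻¹ * x a j r * l⁻¹⁻¹
          = (l⁻¹ * u * l⁻¹⁻¹)⁻¹ * (l⁻¹ * (u * x a j r) * l⁻¹⁻¹) := by group
        _ = _ := by rw [e, hfix _ (inv_mem hl) u hu]
  obtain ⟨l, hl, el⟩ := hconj z hz
  have hle : X x {j} (s'.erase j) ≤ X x s' (insert a s') :=
    X_mono (by simp [hj]) ((Finset.erase_subset _ _).trans (Finset.subset_insert _ _))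
  have e : z * x a j r * g = l * (x a j r * (l⁻¹ * g)) := by rw [← el]; group
  rw [e] at h0 ⊢
  rw [coord_left S ha hb (hle hl)] at h0
  exact Big.left S ha hb (hle hl)
    (Big.single S ha hb hj r (Big.left S ha hb (inv_mem (hle hl)) hg) h0)

theorem Cov.lev {l g : G} (hl : l ∈ X x s' s') (hg : Cov x a b s' g) : Cov x a b s' (l * g) := by
  obtain ⟨y, hy, hg⟩ := hg
  refine ⟨l * y * l⁻¹, conj_mem_of_le_normalizer (lev_norm_row S ha hb) hl hy, ?_⟩
  rw [show l * y * l⁻¹ * (l * g) = l * (y * g) by group]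
  exact Big.left S ha hb (X_mono subset_rfl (Finset.subset_insert _ _) hl) hg

theorem Cov.col_aux {i k : ι} (hi : i ∈ s') (hk : k ∈ s') (hik : i ≠ k) (t : K) {g : G}
    (hg : Cov x a b s' g) (h0 : φ g a a = 0) (hka : φ g k a ≠ 0) :
    Cov x a b s' (x i a t * g) := by
  obtain ⟨y, hy, hg⟩ := hg
  have hai : i ≠ a := fun e => ha (e ▸ hi)
  have hak : a ≠ k := fun e => ha (e ▸ hk)
  have hmem : x a k 1 ∈ X x {a} s' := mem_X (Finset.mem_singleton_self _) hk hak _
  have h1 : Big x a b s' (x a k 1 * g) := by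
    have := Big.row S ha hb (mul_mem hmem (inv_mem hy)) hg (by
      rw [show x a k 1 * y⁻¹ * (y * g) = x a k 1 * g by group, map_mul, S.map _ _ hak,
        Matrix.transvection_mul_apply_same, h0]
      simpa using hka)
    rwa [show x a k 1 * y⁻¹ * (y * g) = x a k 1 * g by group] at this
  refine ⟨x a k 1, hmem, ?_⟩
  rw [show x a k 1 * (x i a t * g) = (x a k 1 * x i a t * (x a k 1)⁻¹) * (x a k 1 * g) by group,
    conj_snd S hai hak hik]
  exact Big.left S ha hb (mul_mem (mem_X hi (Finset.mem_insert_of_mem hk) hik _)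
    (mem_X hi (Finset.mem_insert_self _ _) hai _)) h1

theorem Cov.col (hcard : 2 ≤ s'.card) {i : ι} (hi : i ∈ s') (t : K) {g : G}
    (hgs : g ∈ X x (insert a s') (insert a s')) (hg : Cov x a b s' g) :
    Cov x a b s' (x i a t * g) := by
  have hia : i ≠ a := fun e => ha (e ▸ hi)
  by_cases h0 : φ g a a = 0
  · obtain ⟨k₀, hk₀, hk₀g⟩ : ∃ k ∈ s', φ g k a ≠ 0 := by
      by_contra hcon
      simp only [not_exists, not_and, not_not] at hcon
      have e : φ g⁻¹ * φ g = 1 := by rw [← map_mul, inv_mul_cancel, map_one]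
      have e' : (φ g⁻¹ * φ g) a a = 0 := by
        rw [Matrix.mul_apply]
        refine Finset.sum_eq_zero fun m _ => ?_
        by_cases hma : m = a
        · rw [hma, h0, mul_zero]
        by_cases hms : m ∈ s'
        · rw [hcon m hms, mul_zero]
        · rw [map_apply S hgs m a (Or.inl (by simp [hma, hms])), Matrix.one_apply_ne hma, mul_zero]
      rw [e, Matrix.one_apply_eq] at e'
      exact one_ne_zero e'
    by_cases hki : k₀ = i
    · subst hki
      obtain ⟨k, hk, hki⟩ := Finset.exists_mem_ne hcard k₀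
      have hka : k ≠ a := fun e => ha (e ▸ hk)
      by_cases hkg : φ g k a = 0
      · have c1 : φ (x k k₀ 1 * g) a a = 0 := by
          rw [map_mul, S.map _ _ hki, Matrix.transvection_mul_apply_of_ne _ _ _ _ hka.symm, h0]
        have c2 : φ (x k k₀ 1 * g) k₀ a = φ g k₀ a := by
          rw [map_mul, S.map _ _ hki, Matrix.transvection_mul_apply_of_ne _ _ _ _ (Ne.symm hki)]
        have c3 : φ (x k k₀ 1 * g) k a = φ g k₀ a := by
          rw [map_mul, S.map _ _ hki, Matrix.transvection_mul_apply_same, hkg, zero_add, one_mul]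
        have h2 : Cov x a b s' (x k a t * (x k k₀ 1 * g)) :=
          Cov.col_aux S ha hb hk hk₀ hki t (Cov.lev S ha hb (mem_X hk hk₀ hki _) hg) c1 (by rwa [c2])
        have h3 : Cov x a b s' (x k₀ a t * (x k a t * (x k k₀ 1 * g))) := by
          refine Cov.col_aux S ha hb hk₀ hk (Ne.symm hki) t h2 ?_ ?_
          · rw [map_mul, S.map _ _ hka, Matrix.transvection_mul_apply_of_ne _ _ _ _ hka.symm, c1]
          · rw [map_mul, S.map _ _ hka, Matrix.transvection_mul_apply_same, c1, c3, mul_zero, add_zero]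
            exact hk₀g
        have e : x k₀ a t * g = x k k₀ (-1) * (x k₀ a t * (x k a t * (x k k₀ 1 * g))) := by
          have := conj_fst S hki hia hka 1 t
          rw [one_mul, mul_inv_eq_iff_eq_mul] at this
          rw [neg S hki, ← mul_assoc (x k a t), ← mul_assoc (x k₀ a t),
            ← mul_assoc (x k₀ a t), (S.comm k₀ a k a hia hka hia hka.symm t t).eq, ← this]
          group
        rw [e]
        exact Cov.lev S ha hb (mem_X hk hk₀ hki _) h3
      · exact Cov.col_aux S ha hb hk₀ hk (Ne.symm hki) t hg h0 hkg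
    · exact Cov.col_aux S ha hb hi hk₀ (Ne.symm hki) t hg h0 hk₀g
  · obtain ⟨y, hy, hg⟩ := hg
    have h1 : Big x a b s' g := by
      have := Big.row S ha hb (inv_mem hy) hg (by rwa [inv_mul_cancel_left])
      rwa [inv_mul_cancel_left] at this
    refine ⟨1, one_mem _, ?_⟩
    rw [one_mul]
    exact Big.left S ha hb (mem_X hi (Finset.mem_insert_self _ _) hia t) h1

theorem Cov.gen (hcard : 2 ≤ s'.card) {i j : ι} (hi : i ∈ insert a s') (hj : j ∈ insert a s')
    (hij : i ≠ j) (t : K) {g : G} (hgs : g ∈ X x (insert a s') (insert a s'))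
    (hg : Cov x a b s' g) : Cov x a b s' (x i j t * g) := by
  rw [Finset.mem_insert] at hi hj
  by_cases hia : i = a
  · have hj' : j ∈ s' := hj.resolve_left fun e => hij (hia.trans e.symm)
    obtain ⟨y, hy, hg⟩ := hg
    refine ⟨y * x i j (-t), mul_mem hy ?_, ?_⟩
    · exact mem_X (by simp [hia]) hj' hij _
    · rwa [neg S hij, show y * (x i j t)⁻¹ * (x i j t * g) = y * g by group]
  · have hi' : i ∈ s' := hi.resolve_left hia
    rcases hj with hja | hj'
    · rw [hja]; exact Cov.col S ha hb hcard hi' t hgs hg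
    · exact Cov.lev S ha hb (mem_X hi' hj' hij t) hg

/-- Everything is in `U V T H`. -/
theorem covered (hcard : 2 ≤ s'.card) {g : G} (hg : g ∈ X x (insert a s') (insert a s')) :
    Cov x a b s' g := by
  unfold X at hg
  induction hg using Subgroup.closure_induction_left with
  | one =>
    exact ⟨1, one_mem _, 1, one_mem _, 1, one_ne_zero, 1, one_mem _, by
      simp [H_one S (hab S ha hb)]⟩
  | mul_left z hz w hw ih =>
    obtain ⟨i, hi, j, hj, hij, t, rfl⟩ := hz
    exact Cov.gen S ha hb hcard hi hj hij t hw ih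
  | inv_mul_cancel z hz w hw ih =>
    obtain ⟨i, hi, j, hj, hij, t, rfl⟩ := hz
    rw [← neg S hij]
    exact Cov.gen S ha hb hcard hi hj hij (-t) hw ih

theorem step (hcard : 2 ≤ s'.card) (hinj : ∀ g ∈ X x s' s', φ g = 1 → g = 1) :
    ∀ g ∈ X x (insert a s') (insert a s'), φ g = 1 → g = 1 := by
  intro g hg h1
  have hab := hab S ha hb
  obtain ⟨y, hy, hbig⟩ := covered S ha hb hcard hg
  have hg' : Big x a b s' g := by
    have := Big.row S ha hb (inv_mem hy) hbig (by simp [h1])
    rwa [inv_mul_cancel_left] at this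
  obtain ⟨v, hv, c, hc, η, hη, rfl⟩ := hg'
  have hη' : ∀ m, φ η m a = (1 : Matrix ι ι K) m a := fun m => map_apply S hη m a (Or.inr ha)
  have hcol : ∀ i, φ (v * H x a b c * η) i a = φ v i a * c := by
    intro i
    rw [map_mul, Matrix.mul_apply, Finset.sum_eq_single a
      (fun m _ hm => by rw [hη', Matrix.one_apply_ne hm, mul_zero]) (by simp), hη', Matrix.one_apply_eq,
      mul_one, map_mul, Matrix.mul_apply, Finset.sum_eq_single a
      (fun m _ hm => by rw [map_H_col S hab hc, if_neg hm, mul_zero]) (by simp), map_H_col S hab hc,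
      if_pos rfl]
  have hc1 : c = 1 := by
    have := hcol a
    rw [h1, map_apply S hv a a (Or.inl ha), Matrix.one_apply_eq, one_mul] at this
    exact this.symm
  have hv1 : v = 1 := by
    refine eq_one_of_col S a s' ha v hv fun i hi => ?_
    have := hcol i
    rw [h1, hc1, mul_one, Matrix.one_apply_ne (fun e => ha (by rw [← e]; exact hi))] at this
    exact this.symm
  rw [hv1, hc1, H_one S hab, one_mul, one_mul] at h1 ⊢
  obtain ⟨y', hy', l, hl, rfl⟩ := exists_stab S ha hb hη
  have e : φ y' = φ l⁻¹ := by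
    have e' : φ l * φ l⁻¹ = 1 := by rw [← map_mul, mul_inv_cancel, map_one]
    calc φ y' = φ y' * (φ l * φ l⁻¹) := by rw [e', mul_one]
      _ = φ (y' * l) * φ l⁻¹ := by rw [map_mul φ y', mul_assoc]
      _ = _ := by rw [h1, one_mul]
  have hy1 : y' = 1 := by
    refine eq_one_of_row S a s' ha y' hy' fun j hj => ?_
    rw [e, map_apply S (inv_mem hl) a j (Or.inl ha), Matrix.one_apply_ne]
    exact fun e => ha (e ▸ hj)
  rw [hy1, one_mul] at h1 ⊢
  exact hinj l hl h1

end Step

/-- `φ` is injective on every `X s s`. -/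
theorem injective_on (S : StRel x φ) : ∀ n, 2 ≤ n → ∀ s : Finset ι, s.card = n →
    ∀ g ∈ X x s s, φ g = 1 → g = 1 := by
  intro n hn
  induction n, hn using Nat.le_induction with
  | base =>
    intro s hs g hg h1
    obtain ⟨a, b, hab, rfl⟩ := Finset.card_eq_two.1 hs
    have h := blk_injective S hab (a₁ := (⟨g, hg⟩ : Rk x a b)) (a₂ := 1) (by
      rw [map_one]
      show !![φ g a a, φ g a b; φ g b a, φ g b b] = 1
      rw [h1]
      simp [hab, hab.symm, Matrix.one_fin_two])
    exact congrArg Subtype.val h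
  | succ n hn ih =>
    intro s hs
    obtain ⟨a, ha⟩ : s.Nonempty := Finset.card_pos.1 (by omega)
    have hc : (s.erase a).card = n := by rw [Finset.card_erase_of_mem ha, hs]; omega
    obtain ⟨b, hb⟩ : (s.erase a).Nonempty := Finset.card_pos.1 (by omega)
    rw [← Finset.insert_erase ha]
    exact step S (Finset.notMem_erase a s) hb (by omega) (ih _ hc)

end CfsgLib.SteinbergSLn
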