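import Mathlib

/-!
# Root subgroups in a group with the Steinberg relations of type `A`

`X R C` is generated by the `x i j t` with `i ∈ R`, `j ∈ C`.
-/

set_option autoImplicit false
set_option linter.unusedSectionVars false

namespace CfsgLib.SteinbergSLn

variable {G K ι : Type*} [Group G] [Field K] [Fintype ι] [DecidableEq ι]

/-- The relations, and a representation by transvections. -/
structure StRel (x : ι → ι → K → G) (φ : G →* Matrix ι ι K) : Prop where
  third : ∀ i j : ι, ∃ k, k ≠ i ∧ k ≠ j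
  add : ∀ i j, i ≠ j → ∀ t u, x i j (t + u) = x i j t * x i j u
  comm : ∀ i j k l, i ≠ j → k ≠ l → i ≠ l → j ≠ k → ∀ t u, Commute (x i j t) (x k l u)
  prod : ∀ i j l, i ≠ j → j ≠ l → i ≠ l → ∀ t u,
    x i j t * x j l u * (x i j t)⁻¹ * (x j l u)⁻¹ = x i l (t * u)
  map : ∀ i j, i ≠ j → ∀ t, φ (x i j t) = Matrix.transvection i j t

/-- Subgroup generated by the root elements with row in `R` and column in `C`. -/
def X (x : ι → ι → K → G) (R C : Finset ι) : Subgroup G :=
  Subgroup.closure {g | ∃ i ∈ R, ∃ j ∈ C, i ≠ j ∧ ∃ t, g = x i j t}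

/-- `w_ij(t)`. -/
def W (x : ι → ι → K → G) (i j : ι) (t : K) : G := x i j t * x j i (-t⁻¹) * x i j t

/-- `h_ij(c)`. -/
def H (x : ι → ι → K → G) (i j : ι) (c : K) : G := W x i j c * W x i j (-1)

variable {x : ι → ι → K → G} {φ : G →* Matrix ι ι K}

theorem mem_X {R C : Finset ι} {i j : ι} (hi : i ∈ R) (hj : j ∈ C) (hij : i ≠ j) (t : K) :
    x i j t ∈ X x R C :=
  Subgroup.subset_closure ⟨i, hi, j, hj, hij, t, rfl⟩

theorem X_le {R C : Finset ι} {S : Subgroup G}
    (h : ∀ i ∈ R, ∀ j ∈ C, i ≠ j → ∀ t, x i j t ∈ S) : X x R C ≤ S := by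
  rw [X, Subgroup.closure_le]
  rintro _ ⟨i, hi, j, hj, hij, t, rfl⟩
  exact h i hi j hj hij t

theorem X_mono {R R' C C' : Finset ι} (hR : R ⊆ R') (hC : C ⊆ C') : X x R C ≤ X x R' C' :=
  X_le fun _ hi _ hj hij t => mem_X (hR hi) (hC hj) hij t

theorem zero (S : StRel x φ) {i j : ι} (h : i ≠ j) : x i j 0 = 1 := by
  simpa using S.add i j h 0 0

theorem neg (S : StRel x φ) {i j : ι} (h : i ≠ j) (t : K) : x i j (-t) = (x i j t)⁻¹ :=
  eq_inv_of_mul_eq_one_left (by rw [← S.add i j h, neg_add_cancel, zero S h])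

theorem conj_fst (S : StRel x φ) {i j l : ι} (hij : i ≠ j) (hjl : j ≠ l) (hil : i ≠ l) (t u : K) :
    x i j t * x j l u * (x i j t)⁻¹ = x i l (t * u) * x j l u := by
  rw [← S.prod i j l hij hjl hil t u, inv_mul_cancel_right]

theorem conj_snd (S : StRel x φ) {i j l : ι} (hij : i ≠ j) (hjl : j ≠ l) (hil : i ≠ l) (t u : K) :
    x j l u * x i j t * (x j l u)⁻¹ = x i l (-(t * u)) * x i j t := by
  rw [neg S hil, ← S.prod i j l hij hjl hil t u]
  group

theorem conj_comm (S : StRel x φ) {i j k l : ι} (hij : i ≠ j) (hkl : k ≠ l) (hil : i ≠ l)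
    (hjk : j ≠ k) (t u : K) : x i j t * x k l u * (x i j t)⁻¹ = x k l u := by
  rw [(S.comm i j k l hij hkl hil hjk t u).eq, mul_inv_cancel_right]

theorem conj_prod (g a b : G) : g * (a * b) * g⁻¹ = (g * a * g⁻¹) * (g * b * g⁻¹) := by group

theorem conj_W (i j : ι) (t : K) (y : G) : W x i j t * y * (W x i j t)⁻¹ =
    x i j t * (x j i (-t⁻¹) * (x i j t * y * (x i j t)⁻¹) * (x j i (-t⁻¹))⁻¹) * (x i j t)⁻¹ := by
  simp only [W]; group

theorem W_ik (S : StRel x φ) {i j k : ι} (hij : i ≠ j) (hki : k ≠ i) (hkj : k ≠ j) {t : K}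
    (ht : t ≠ 0) (v : K) : W x i j t * x i k v * (W x i j t)⁻¹ = x j k (-(t⁻¹ * v)) := by
  rw [conj_W, conj_comm S hij hki.symm hki.symm hij.symm, conj_fst S hij.symm hki.symm hkj.symm,
    conj_prod, conj_fst S hij hkj.symm hki.symm, conj_comm S hij hki.symm hki.symm hij.symm,
    show t * (-t⁻¹ * v) = -v by field_simp,
    (S.comm i k j k hki.symm hkj.symm hki.symm hkj (-v) _).eq, mul_assoc, ← S.add i k hki.symm,
    neg_add_cancel, zero S hki.symm, mul_one, neg_mul]

theorem W_jk (S : StRel x φ) {i j k : ι} (hij : i ≠ j) (hki : k ≠ i) (hkj : k ≠ j) {t : K}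
    (ht : t ≠ 0) (v : K) : W x i j t * x j k v * (W x i j t)⁻¹ = x i k (t * v) := by
  rw [conj_W, conj_fst S hij hkj.symm hki.symm, conj_prod (x j i (-t⁻¹)),
    conj_fst S hij.symm hki.symm hkj.symm, conj_comm S hij.symm hkj.symm hkj.symm hij,
    show -t⁻¹ * (t * v) = -v by field_simp,
    (S.comm j k i k hkj.symm hki.symm hkj.symm hki (-v) _).eq, mul_assoc (x i k (t * v)),
    ← S.add j k hkj.symm,
    neg_add_cancel, zero S hkj.symm, mul_one, conj_comm S hij hki.symm hki.symm hij.symm]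

theorem W_ki (S : StRel x φ) {i j k : ι} (hij : i ≠ j) (hki : k ≠ i) (hkj : k ≠ j) {t : K}
    (ht : t ≠ 0) (v : K) : W x i j t * x k i v * (W x i j t)⁻¹ = x k j (-(t * v)) := by
  rw [conj_W, conj_snd S hki hij hkj, conj_prod (x j i (-t⁻¹)),
    conj_snd S hkj hij.symm hki, conj_comm S hij.symm hki hij.symm hki.symm,
    show -(-(v * t) * -t⁻¹) = -v by field_simp,
    (S.comm k i k j hki hkj hkj hki.symm (-v) _).eq, mul_assoc (x k j (-(v * t))), ← S.add k i hki,
    neg_add_cancel, zero S hki, mul_one, conj_comm S hij hkj hij hkj.symm, mul_comm v]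

theorem W_kj (S : StRel x φ) {i j k : ι} (hij : i ≠ j) (hki : k ≠ i) (hkj : k ≠ j) {t : K}
    (ht : t ≠ 0) (v : K) : W x i j t * x k j v * (W x i j t)⁻¹ = x k i (t⁻¹ * v) := by
  rw [conj_W, conj_comm S hij hkj hij hkj.symm, conj_snd S hkj hij.symm hki, conj_prod,
    conj_snd S hki hij hkj, conj_comm S hij hkj hij hkj.symm,
    show -(-(v * -t⁻¹) * t) = -v by field_simp,
    (S.comm k j k i hkj hki hki hkj.symm (-v) _).eq, mul_assoc, ← S.add k j hkj,
    neg_add_cancel, zero S hkj, mul_one, mul_neg, neg_neg, mul_comm v]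

theorem conj_H (i j : ι) (c : K) (y : G) : H x i j c * y * (H x i j c)⁻¹ =
    W x i j c * (W x i j (-1) * y * (W x i j (-1))⁻¹) * (W x i j c)⁻¹ := by
  simp only [H]; group

theorem H_ik (S : StRel x φ) {i j k : ι} (hij : i ≠ j) (hki : k ≠ i) (hkj : k ≠ j) {c : K}
    (hc : c ≠ 0) (v : K) : H x i j c * x i k v * (H x i j c)⁻¹ = x i k (c * v) := by
  rw [conj_H, W_ik S hij hki hkj (neg_ne_zero.2 one_ne_zero), W_jk S hij hki hkj hc]
  simp [inv_neg]

theorem H_jk (S : StRel x φ) {i j k : ι} (hij : i ≠ j) (hki : k ≠ i) (hkj : k ≠ j) {c : K}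
    (hc : c ≠ 0) (v : K) : H x i j c * x j k v * (H x i j c)⁻¹ = x j k (c⁻¹ * v) := by
  rw [conj_H, W_jk S hij hki hkj (neg_ne_zero.2 one_ne_zero), W_ik S hij hki hkj hc]
  simp

theorem H_ki (S : StRel x φ) {i j k : ι} (hij : i ≠ j) (hki : k ≠ i) (hkj : k ≠ j) {c : K}
    (hc : c ≠ 0) (v : K) : H x i j c * x k i v * (H x i j c)⁻¹ = x k i (c⁻¹ * v) := by
  rw [conj_H, W_ki S hij hki hkj (neg_ne_zero.2 one_ne_zero), W_kj S hij hki hkj hc]
  simp

theorem H_kj (S : StRel x φ) {i j k : ι} (hij : i ≠ j) (hki : k ≠ i) (hkj : k ≠ j) {c : K}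
    (hc : c ≠ 0) (v : K) : H x i j c * x k j v * (H x i j c)⁻¹ = x k j (c * v) := by
  rw [conj_H, W_kj S hij hki hkj (neg_ne_zero.2 one_ne_zero), W_ki S hij hki hkj hc]
  simp [inv_neg]

theorem H_kl (S : StRel x φ) {i j k l : ι} (hij : i ≠ j) (hkl : k ≠ l) (hki : k ≠ i) (hkj : k ≠ j)
    (hli : l ≠ i) (hlj : l ≠ j) (c : K) (v : K) :
    H x i j c * x k l v * (H x i j c)⁻¹ = x k l v := by
  have h1 : ∀ t, Commute (x i j t) (x k l v) := fun t => S.comm i j k l hij hkl hli.symm hkj.symm t v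
  have h2 : ∀ t, Commute (x j i t) (x k l v) := fun t =>
    S.comm j i k l hij.symm hkl hlj.symm hki.symm t v
  have h3 : Commute (H x i j c) (x k l v) :=
    (((h1 _).mul_left (h2 _)).mul_left (h1 _)).mul_left (((h1 _).mul_left (h2 _)).mul_left (h1 _))
  rw [h3.eq, mul_inv_cancel_right]

/-- The relation of rank one. -/
theorem W_ij (S : StRel x φ) {i j : ι} (hij : i ≠ j) {t : K} (ht : t ≠ 0) (v : K) :
    W x i j t * x i j v * (W x i j t)⁻¹ = x j i (-(t⁻¹ ^ 2 * v)) := by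
  obtain ⟨k, hki, hkj⟩ := S.third i j
  have e := S.prod i k j hki.symm hkj hij v 1
  rw [mul_one] at e
  have e' := S.prod j k i hkj.symm hki hij.symm (-(t⁻¹ * v)) (t⁻¹ * 1)
  rw [← e, show -(t⁻¹ ^ 2 * v) = -(t⁻¹ * v) * (t⁻¹ * 1) by ring, ← e', ← W_ik S hij hki hkj ht v,
    ← W_kj S hij hki hkj ht 1]
  group

theorem W_mem {R C : Finset ι} {i j : ι} (hij : i ≠ j) (hiR : i ∈ R) (hjR : j ∈ R) (hiC : i ∈ C)
    (hjC : j ∈ C) (t : K) : W x i j t ∈ X x R C :=
  mul_mem (mul_mem (mem_X hiR hjC hij t) (mem_X hjR hiC hij.symm _)) (mem_X hiR hjC hij t)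

theorem H_mem {R C : Finset ι} {i j : ι} (hij : i ≠ j) (hiR : i ∈ R) (hjR : j ∈ R) (hiC : i ∈ C)
    (hjC : j ∈ C) (t : K) : H x i j t ∈ X x R C :=
  mul_mem (W_mem hij hiR hjR hiC hjC _) (W_mem hij hiR hjR hiC hjC _)

theorem conj_mem {g : G} {T : Set G} {S' : Subgroup G} (hT : ∀ s ∈ T, g * s * g⁻¹ ∈ S') {y : G}
    (hy : y ∈ Subgroup.closure T) : g * y * g⁻¹ ∈ S' := by
  induction hy using Subgroup.closure_induction with
  | mem z hz => exact hT z hz
  | one => simp
  | mul u v _ _ hu hv => rw [conj_prod]; exact mul_mem hu hv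
  | inv u _ hu => have := inv_mem hu; simpa [mul_assoc] using this

theorem conj_X_mem {g : G} {R C : Finset ι} {S' : Subgroup G}
    (h : ∀ i ∈ R, ∀ j ∈ C, i ≠ j → ∀ t, g * x i j t * g⁻¹ ∈ S') {y : G} (hy : y ∈ X x R C) :
    g * y * g⁻¹ ∈ S' :=
  conj_mem (by rintro _ ⟨i, hi, j, hj, hij, t, rfl⟩; exact h i hi j hj hij t) hy

theorem X_le_normalizer (S : StRel x φ) {R C R' C' : Finset ι}
    (h : ∀ i ∈ R, ∀ j ∈ C, i ≠ j → ∀ k ∈ R', ∀ l ∈ C', k ≠ l → ∀ t u,
      x i j t * x k l u * (x i j t)⁻¹ ∈ X x R' C') :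
    X x R C ≤ Subgroup.normalizer (X x R' C' : Set G) := by
  refine X_le fun i hi j hj hij t => ?_
  rw [Subgroup.mem_normalizer_iff]
  refine fun y => ⟨fun hy => conj_X_mem (fun k hk l hl hkl u => h i hi j hj hij k hk l hl hkl t u) hy,
    fun hy => ?_⟩
  have := conj_X_mem (g := x i j (-t))
    (fun k hk l hl hkl u => h i hi j hj hij k hk l hl hkl (-t) u) hy
  simpa [neg S hij, mul_assoc] using this

theorem conj_mem_of_le_normalizer {A B : Subgroup G} (h : A ≤ Subgroup.normalizer (B : Set G))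
    {a b : G} (ha : a ∈ A) (hb : b ∈ B) : a * b * a⁻¹ ∈ B :=
  (Subgroup.mem_normalizer_iff.1 (h ha) b).1 hb

theorem exists_mul_of_mem_sup {A B : Subgroup G} (h : B ≤ Subgroup.normalizer (A : Set G))
    {g : G} (hg : g ∈ A ⊔ B) : ∃ a ∈ A, ∃ b ∈ B, g = a * b := by
  have := SetLike.mem_coe.2 hg
  rw [Subgroup.coe_mul_of_right_le_normalizer_left A B h] at this
  obtain ⟨a, ha, b, hb, rfl⟩ := this
  exact ⟨a, ha, b, hb, rfl⟩

theorem exists_of_mem_single (S : StRel x φ) {i j : ι} (hij : i ≠ j) {g : G}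
    (hg : g ∈ X x {i} {j}) : ∃ t, g = x i j t := by
  unfold X at hg
  induction hg using Subgroup.closure_induction with
  | mem z hz =>
    obtain ⟨k, hk, l, hl, -, t, rfl⟩ := hz
    rw [Finset.mem_singleton] at hk hl
    subst hk hl
    exact ⟨t, rfl⟩
  | one => exact ⟨0, (zero S hij).symm⟩
  | mul u v _ _ hu hv =>
    obtain ⟨t, rfl⟩ := hu; obtain ⟨t', rfl⟩ := hv
    exact ⟨t + t', (S.add i j hij t t').symm⟩
  | inv u _ hu => obtain ⟨t, rfl⟩ := hu; exact ⟨-t, (neg S hij t).symm⟩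

/-- Splitting off one root element. -/
theorem exists_split (S : StRel x φ) {i₀ j₀ : ι} (h₀ : i₀ ≠ j₀) {R C R' C' : Finset ι}
    (hgen : ∀ i ∈ R, ∀ j ∈ C, i ≠ j → (i = i₀ ∧ j = j₀) ∨ (i ∈ R' ∧ j ∈ C'))
    (hcomm : ∀ i ∈ R', ∀ j ∈ C', i ≠ j → i₀ ≠ j ∧ j₀ ≠ i) {g : G} (hg : g ∈ X x R C) :
    ∃ r, ∃ z ∈ X x R' C', g = z * x i₀ j₀ r := by
  have hle : X x R C ≤ X x R' C' ⊔ X x {i₀} {j₀} := by
    refine X_le fun i hi j hj hij t => ?_
    rcases hgen i hi j hj hij with ⟨rfl, rfl⟩ | ⟨h1, h2⟩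
    · exact Subgroup.mem_sup_right (mem_X (Finset.mem_singleton_self _) (Finset.mem_singleton_self _) hij t)
    · exact Subgroup.mem_sup_left (mem_X h1 h2 hij t)
  have hn : X x {i₀} {j₀} ≤ Subgroup.normalizer (X x R' C' : Set G) := by
    refine X_le_normalizer S fun i hi j hj hij k hk l hl hkl t u => ?_
    rw [Finset.mem_singleton] at hi hj
    subst hi hj
    obtain ⟨h1, h2⟩ := hcomm k hk l hl hkl
    rw [conj_comm S hij hkl h1 h2]
    exact mem_X hk hl hkl u
  obtain ⟨z, hz, y, hy, rfl⟩ := exists_mul_of_mem_sup hn (hle hg)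
  obtain ⟨r, rfl⟩ := exists_of_mem_single S h₀ hy
  exact ⟨r, z, hz, rfl⟩

/-- Matrices of elements of `X R C` agree with `1` outside `R × C`. -/
theorem map_apply (S : StRel x φ) {R C : Finset ι} {g : G} (hg : g ∈ X x R C) :
    ∀ i k, i ∉ R ∨ k ∉ C → φ g i k = (1 : Matrix ι ι K) i k := by
  have row : ∀ (A B : Matrix ι ι K) (i k : ι), (∀ m, A i m = (1 : Matrix ι ι K) i m) →
      (A * B) i k = B i k := by
    intro A B i k h
    calc (A * B) i k = ((1 : Matrix ι ι K) * B) i k := by simp only [Matrix.mul_apply, h]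
      _ = _ := by rw [Matrix.one_mul]
  have col : ∀ (A B : Matrix ι ι K) (i k : ι), (∀ m, B m k = (1 : Matrix ι ι K) m k) →
      (A * B) i k = A i k := by
    intro A B i k h
    calc (A * B) i k = (A * (1 : Matrix ι ι K)) i k := by simp only [Matrix.mul_apply, h]
      _ = _ := by rw [Matrix.mul_one]
  unfold X at hg
  induction hg using Subgroup.closure_induction with
  | mem z hz =>
    obtain ⟨a, ha, b, hb, hab, t, rfl⟩ := hz
    intro i k h
    rw [S.map a b hab, Matrix.transvection, Matrix.add_apply, Matrix.single_apply_of_ne, add_zero]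
    rintro ⟨rfl, rfl⟩
    rcases h with h | h
    · exact h ha
    · exact h hb
  | one => intro i k _; rw [map_one]
  | mul u v _ _ hu hv =>
    intro i k h
    rw [map_mul]
    rcases h with h | h
    · rw [row _ _ _ _ fun m => hu i m (Or.inl h)]; exact hv i k (Or.inl h)
    · rw [col _ _ _ _ fun m => hv m k (Or.inr h)]; exact hu i k (Or.inr h)
  | inv u _ hu =>
    intro i k h
    rcases h with h | h
    · have e : φ u * φ u⁻¹ = 1 := by rw [← map_mul, mul_inv_cancel, map_one]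
      rw [← row (φ u) (φ u⁻¹) i k fun m => hu i m (Or.inl h), e]
    · have e : φ u⁻¹ * φ u = 1 := by rw [← map_mul, inv_mul_cancel, map_one]
      rw [← col (φ u⁻¹) (φ u) i k fun m => hu m k (Or.inr h), e]

theorem X_eq_bot_of_empty_left {C : Finset ι} : X x ∅ C = ⊥ :=
  le_bot_iff.1 (X_le fun i hi => absurd hi (Finset.notMem_empty i))

theorem X_eq_bot_of_empty_right {R : Finset ι} : X x R ∅ = ⊥ :=
  le_bot_iff.1 (X_le fun _ _ j hj => absurd hj (Finset.notMem_empty j))

/-- A root row is faithful. -/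
theorem eq_one_of_row (S : StRel x φ) (a : ι) :
    ∀ T : Finset ι, a ∉ T → ∀ g ∈ X x {a} T, (∀ j ∈ T, φ g a j = 0) → g = 1 := by
  intro T
  induction T using Finset.induction with
  | empty => intro _ g hg _; rwa [X_eq_bot_of_empty_right, Subgroup.mem_bot] at hg
  | @insert j T hj ih =>
    intro ha g hg h0
    rw [Finset.mem_insert, not_or] at ha
    obtain ⟨r, z, hz, rfl⟩ := exists_split S ha.1 (R' := {a}) (C' := T)
      (fun i hi k hk _ => by
        rw [Finset.mem_singleton] at hi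
        rcases Finset.mem_insert.1 hk with rfl | hk
        · exact Or.inl ⟨hi, rfl⟩
        · exact Or.inr ⟨Finset.mem_singleton.2 hi, hk⟩)
      (fun i hi k hk _ => by
        rw [Finset.mem_singleton] at hi
        subst hi
        exact ⟨fun e => ha.2 (e ▸ hk), Ne.symm ha.1⟩) hg
    have hr : r = 0 := by
      have h := h0 j (Finset.mem_insert_self _ _)
      rw [map_mul, S.map _ _ ha.1, Matrix.mul_transvection_apply_same, map_apply S hz a j (Or.inr hj),
        map_apply S hz a a (Or.inr ha.2), Matrix.one_apply_ne ha.1, Matrix.one_apply_eq] at h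
      simpa using h
    subst hr
    rw [zero S ha.1, mul_one] at h0 hg ⊢
    exact ih ha.2 z hz fun k hk => h0 k (Finset.mem_insert_of_mem hk)

/-- A root column is faithful. -/
theorem eq_one_of_col (S : StRel x φ) (a : ι) :
    ∀ T : Finset ι, a ∉ T → ∀ g ∈ X x T {a}, (∀ i ∈ T, φ g i a = 0) → g = 1 := by
  intro T
  induction T using Finset.induction with
  | empty => intro _ g hg _; rwa [X_eq_bot_of_empty_left, Subgroup.mem_bot] at hg
  | @insert i T hi ih =>
    intro ha g hg h0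
    rw [Finset.mem_insert, not_or] at ha
    obtain ⟨r, z, hz, rfl⟩ := exists_split S (Ne.symm ha.1) (R' := T) (C' := {a})
      (fun k hk l hl _ => by
        rw [Finset.mem_singleton] at hl
        rcases Finset.mem_insert.1 hk with rfl | hk
        · exact Or.inl ⟨rfl, hl⟩
        · exact Or.inr ⟨hk, Finset.mem_singleton.2 hl⟩)
      (fun k hk l hl _ => by
        rw [Finset.mem_singleton] at hl
        subst hl
        exact ⟨Ne.symm ha.1, fun e => ha.2 (e ▸ hk)⟩) hg
    have hr : r = 0 := by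
      have h := h0 i (Finset.mem_insert_self _ _)
      rw [map_mul, S.map _ _ (Ne.symm ha.1), Matrix.mul_transvection_apply_same,
        map_apply S hz i a (Or.inl hi), map_apply S hz i i (Or.inl hi),
        Matrix.one_apply_ne (Ne.symm ha.1), Matrix.one_apply_eq] at h
      simpa using h
    subst hr
    rw [zero S (Ne.symm ha.1), mul_one] at h0 hg ⊢
    exact ih ha.2 z hz fun k hk => h0 k (Finset.mem_insert_of_mem hk)

end CfsgLib.SteinbergSLn
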