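import Cfsg.Agent.SteinbergSLn.Subgroups
import Cfsg.Agent.SL2Steinberg.Basic
import Cfsg.Agent.SL2Pres.Concrete
import Cfsg.Agent.Linear.Basic

/-!
# The rank one subgroups are faithfully represented
-/

set_option autoImplicit false
set_option linter.unusedSectionVars false

namespace CfsgLib.SteinbergSLn

variable {G K ι : Type*} [Group G] [Field K] [Fintype ι] [DecidableEq ι]
variable {x : ι → ι → K → G} {φ : G →* Matrix ι ι K}

/-- `X {a,b} {a,b}`. -/
abbrev Rk (x : ι → ι → K → G) (a b : ι) : Subgroup G := X x {a, b} {a, b}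

/-- The upper root element. -/
def up {a b : ι} (hab : a ≠ b) (t : K) : Rk x a b :=
  ⟨x a b t, mem_X (by simp) (by simp) hab t⟩

/-- The lower root element. -/
def lo {a b : ι} (hab : a ≠ b) (t : K) : Rk x a b :=
  ⟨x b a t, mem_X (by simp) (by simp) hab.symm t⟩

/-- `h(c)`. -/
def tor {a b : ι} (hab : a ≠ b) (c : K) : Rk x a b :=
  up hab c * lo hab (-c⁻¹) * up hab c * (up hab (-1) * lo hab (-(-1)⁻¹) * up hab (-1))

theorem coe_tor {a b : ι} (hab : a ≠ b) (c : K) : (tor (x := x) hab c : G) = H x a b c := rfl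

/-- The block. -/
def blk (S : StRel x φ) {a b : ι} (hab : a ≠ b) : Rk x a b →* Matrix (Fin 2) (Fin 2) K where
  toFun g := !![φ (g : G) a a, φ (g : G) a b; φ (g : G) b a, φ (g : G) b b]
  map_one' := by
    ext i j
    fin_cases i <;> fin_cases j <;> simp [hab, hab.symm]
  map_mul' g h := by
    have key : ∀ p q, (p = a ∨ p = b) →
        φ ((g * h : Rk x a b) : G) p q = φ (g : G) p a * φ (h : G) a q + φ (g : G) p b * φ (h : G) b q := by
      intro p q hp
      rw [Subgroup.coe_mul, map_mul, Matrix.mul_apply]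
      refine Finset.sum_eq_add a b hab (fun m _ hm => ?_) (by simp) (by simp)
      rw [map_apply S g.2 p m (Or.inr (by simp [hm.1, hm.2])), Matrix.one_apply_ne, zero_mul]
      rcases hp with rfl | rfl
      · exact hm.1.symm
      · exact hm.2.symm
    rw [Matrix.mul_fin_two, key a a (Or.inl rfl), key a b (Or.inl rfl), key b a (Or.inr rfl),
      key b b (Or.inr rfl)]

theorem blk_up (S : StRel x φ) {a b : ι} (hab : a ≠ b) (t : K) :
    blk S hab (up hab t) = !![1, t; 0, 1] := by
  show !![_, _; _, _] = _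
  simp [up, S.map a b hab, Matrix.transvection, hab, hab.symm]

theorem blk_lo (S : StRel x φ) {a b : ι} (hab : a ≠ b) (t : K) :
    blk S hab (lo hab t) = !![1, 0; t, 1] := by
  show !![_, _; _, _] = _
  simp [lo, S.map b a hab.symm, Matrix.transvection, hab, hab.symm]

theorem blk_tor (S : StRel x φ) {a b : ι} (hab : a ≠ b) {c : K} (hc : c ≠ 0) :
    blk S hab (tor hab c) = !![c, 0; 0, c⁻¹] := by
  simp only [tor, map_mul, blk_up, blk_lo, Matrix.mul_fin_two]
  ext i j
  fin_cases i <;> fin_cases j <;> simp [hc] <;> field_simp <;> ring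

theorem blk_injective [Finite K] (S : StRel x φ) {a b : ι} (hab : a ≠ b) :
    Function.Injective (blk S hab) := by
  classical
  haveI := Fintype.ofFinite K
  have R : SL2Steinberg.Rel (up (x := x) hab) (lo hab) := by
    refine ⟨?_, fun s t => Subtype.ext (S.add a b hab s t),
      fun s t => Subtype.ext (S.add b a hab.symm s t), fun t v ht => Subtype.ext (W_ij S hab ht v)⟩
    rw [eq_top_iff]
    have e : (⊤ : Subgroup (Rk x a b)) = Subgroup.closure (((↑) : Rk x a b → G) ⁻¹'
        {g | ∃ i ∈ ({a, b} : Finset ι), ∃ j ∈ ({a, b} : Finset ι), i ≠ j ∧ ∃ t, g = x i j t}) :=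
      Subgroup.closure_closure_coe_preimage.symm
    rw [e]
    refine Subgroup.closure_mono ?_
    rintro ⟨g, hg⟩ ⟨i, hi, j, hj, hij, t, rfl⟩
    simp only [Finset.mem_insert, Finset.mem_singleton] at hi hj
    rcases hi with rfl | rfl <;> rcases hj with rfl | rfl
    · exact absurd rfl hij
    · exact Or.inl ⟨t, rfl⟩
    · exact Or.inr ⟨t, rfl⟩
    · exact absurd rfl hij
  obtain ⟨hfin, hle⟩ := SL2Steinberg.card_le R
  have hall : ∀ A : Matrix.SpecialLinearGroup (Fin 2) K,
      ∃ g, blk S hab g = (A : Matrix (Fin 2) (Fin 2) K) := by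
    intro A
    have hA : A ∈ Subgroup.closure (Set.range (SL2Pres.xU : K → _) ∪ {SL2Pres.wW}) := by
      rw [SL2Pres.closure_xU_wW]; trivial
    induction hA using Subgroup.closure_induction with
    | mem z hz =>
      rcases hz with ⟨t, rfl⟩ | hz
      · exact ⟨up hab t, blk_up S hab t⟩
      · rw [Set.mem_singleton_iff] at hz
        subst hz
        refine ⟨up hab 1 * lo hab (-1) * up hab 1, ?_⟩
        simp [map_mul, blk_up, blk_lo, SL2Pres.coe_wW, Matrix.mul_fin_two]
    | one => exact ⟨1, by simp⟩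
    | mul u v _ _ hu hv =>
      obtain ⟨g, hg⟩ := hu; obtain ⟨g', hg'⟩ := hv
      exact ⟨g * g', by rw [map_mul, hg, hg', Matrix.SpecialLinearGroup.coe_mul]⟩
    | inv u _ hu =>
      obtain ⟨g, hg⟩ := hu
      refine ⟨g⁻¹, left_inv_eq_right_inv (a := (u : Matrix (Fin 2) (Fin 2) K)) ?_ ?_⟩
      · rw [← hg, ← map_mul, inv_mul_cancel, map_one]
      · rw [← Matrix.SpecialLinearGroup.coe_mul, mul_inv_cancel, Matrix.SpecialLinearGroup.coe_one]
  have hge : Nat.card (Matrix.SpecialLinearGroup (Fin 2) K) ≤ Nat.card (Set.range (blk S hab)) :=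
    Nat.card_le_card_of_injective (fun A => (⟨(A : Matrix (Fin 2) (Fin 2) K), hall A⟩ : Set.range (blk S hab)))
      fun A B h => Subtype.ext (congrArg Subtype.val h :)
  have hq : Fintype.card K * (Fintype.card K - 1) * (Fintype.card K + 1) =
      Nat.card (Matrix.SpecialLinearGroup (Fin 2) K) := by
    rw [Linear.card_SL_two, show Fintype.card K ^ 2 - 1 =
      (Fintype.card K + 1) * (Fintype.card K - 1) by rw [← Nat.sq_sub_sq, one_pow]]
    ring
  have hb := (Nat.bijective_iff_surjective_and_card (Set.rangeFactorization (blk S hab))).2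
    ⟨Set.rangeFactorization_surjective, le_antisymm (hle.trans (hq.le.trans hge))
      (Nat.card_le_card_of_surjective _ Set.rangeFactorization_surjective)⟩
  exact fun g h e => hb.1 (Subtype.ext e)

variable [Finite K]

theorem H_one (S : StRel x φ) {a b : ι} (hab : a ≠ b) : H x a b 1 = 1 := by
  rw [← coe_tor hab, ← Subgroup.coe_one (Rk x a b)]
  refine congrArg Subtype.val (blk_injective S hab ?_)
  rw [blk_tor S hab one_ne_zero, map_one, inv_one]
  exact Matrix.one_fin_two.symm

theorem H_mul (S : StRel x φ) {a b : ι} (hab : a ≠ b) {c d : K} (hc : c ≠ 0) (hd : d ≠ 0) :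
    H x a b c * H x a b d = H x a b (c * d) := by
  rw [← coe_tor hab, ← coe_tor hab, ← coe_tor hab, ← Subgroup.coe_mul]
  refine congrArg Subtype.val (blk_injective S hab ?_)
  rw [map_mul, blk_tor S hab hc, blk_tor S hab hd, blk_tor S hab (mul_ne_zero hc hd), Matrix.mul_fin_two]
  simp [mul_comm]

theorem H_inv (S : StRel x φ) {a b : ι} (hab : a ≠ b) {c : K} (hc : c ≠ 0) :
    (H x a b c)⁻¹ = H x a b c⁻¹ :=
  inv_eq_of_mul_eq_one_right (by rw [H_mul S hab hc (inv_ne_zero hc), mul_inv_cancel₀ hc, H_one S hab])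

theorem H_self (S : StRel x φ) {a b : ι} (hab : a ≠ b) {c : K} (hc : c ≠ 0) (v : K) :
    H x a b c * x a b v * (H x a b c)⁻¹ = x a b (c ^ 2 * v) := by
  rw [mul_inv_eq_iff_eq_mul, ← coe_tor hab]
  show ((tor (x := x) hab c * up hab v : Rk x a b) : G) = ((up hab (c ^ 2 * v) * tor hab c : Rk x a b) : G)
  refine congrArg Subtype.val (blk_injective S hab ?_)
  simp only [map_mul, blk_tor S hab hc, blk_up, Matrix.mul_fin_two]
  ext i j
  fin_cases i <;> fin_cases j <;> simp <;> field_simp

theorem x_mul_x (S : StRel x φ) {a b : ι} (hab : a ≠ b) {t r : K} (h : 1 + t * r ≠ 0) :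
    x a b t * x b a r = x b a (r / (1 + t * r)) * H x a b (1 + t * r) * x a b (t / (1 + t * r)) := by
  show ((up hab t * lo hab r : Rk x a b) : G) =
    ((lo hab (r / (1 + t * r)) * tor hab (1 + t * r) * up hab (t / (1 + t * r)) : Rk x a b) : G)
  refine congrArg Subtype.val (blk_injective S hab ?_)
  simp only [map_mul, blk_tor S hab h, blk_up, blk_lo, Matrix.mul_fin_two]
  set d := 1 + t * r with hd
  ext i j
  fin_cases i <;> fin_cases j <;> simp [← hd] <;> field_simp
  all_goals linear_combination hd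

theorem map_H_col (S : StRel x φ) {a b : ι} (hab : a ≠ b) {c : K} (hc : c ≠ 0) (i : ι) :
    φ (H x a b c) i a = if i = a then c else 0 := by
  have h := blk_tor S hab hc
  have haa : blk S hab (tor hab c) 0 0 = c := by rw [h]; rfl
  have hba : blk S hab (tor hab c) 1 0 = 0 := by rw [h]; rfl
  by_cases hia : i = a
  · subst hia; rw [if_pos rfl]; exact haa
  · rw [if_neg hia]
    by_cases hib : i = b
    · subst hib; exact hba
    · rw [map_apply S (H_mem (x := x) (R := {a, b}) (C := {a, b}) hab (by simp) (by simp) (by simp)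
        (by simp) c) i a (Or.inl (by simp [hia, hib])), Matrix.one_apply_ne hia]

end CfsgLib.SteinbergSLn
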